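import Mathlib

/-! Homogeneous systems with only the trivial common zero: finiteness of the projection, uniformly
in parameters on a principal open set. -/

set_option autoImplicit false

open MvPolynomial

namespace Groth.Agent.Gen15

universe u

variable {R : Type u} [CommRing R] {σ : Type}

theorem homogeneousComponent_mul_hom {f : MvPolynomial σ R} {d : ℕ} (hf : f.IsHomogeneous d) (n : ℕ)
    (c : MvPolynomial σ R) :
    homogeneousComponent n (c * f) = if d ≤ n then homogeneousComponent (n - d) c * f else 0 := by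
  induction c using MvPolynomial.induction_on' with
  | add p q hp hq =>
      rw [add_mul, map_add, hp, hq]
      split_ifs
      · rw [map_add, add_mul]
      · rw [add_zero]
  | monomial μ a =>
      rw [homogeneousComponent_of_mem ((isHomogeneous_monomial a rfl).mul hf)]
      by_cases h : d ≤ n
      · rw [if_pos h, homogeneousComponent_of_mem (isHomogeneous_monomial a rfl)]
        by_cases h2 : n = μ.degree + d
        · rw [if_pos h2, if_pos (by omega)]
        · rw [if_neg h2, if_neg (by omega), zero_mul]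
      · rw [if_neg h, if_neg (by omega)]

variable {k : Type u} [Field k] {α : Type} [Fintype α]

theorem exists_monomials_mem [IsAlgClosed k] [Fintype σ] [DecidableEq σ] (g : α → MvPolynomial σ k)
    (hz : ∀ w : σ → k, (∀ x, eval w (g x) = 0) → w = 0) :
    ∃ N : ℕ, 0 < N ∧ ∀ μ : σ →₀ ℕ, μ.degree = N →
      monomial μ (1 : k) ∈ Ideal.span (Set.range g) := by
  classical
  have hl : ∀ l : σ, ∃ M : ℕ, (X l : MvPolynomial σ k) ^ M ∈ Ideal.span (Set.range g) := fun l => by
    have h : (X l : MvPolynomial σ k) ∈ (Ideal.span (Set.range g)).radical := by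
      rw [← vanishingIdeal_zeroLocus_eq_radical (K := k), mem_vanishingIdeal_iff]
      intro w hw
      have hw0 : w = 0 := hz w fun x => by
        simpa [aeval_eq_eval] using hw (g x) (Ideal.subset_span ⟨x, rfl⟩)
      simp [hw0]
    exact h
  choose M hM using hl
  refine ⟨(∑ l, M l) + 1, Nat.succ_pos _, fun μ hμ => ?_⟩
  obtain ⟨l, hle⟩ : ∃ l, M l ≤ μ l := by
    by_contra hc
    push Not at hc
    have : μ.degree ≤ ∑ l, M l := by
      rw [Finsupp.degree_eq_sum]
      exact Finset.sum_le_sum fun l _ => (hc l).le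
    omega
  rw [show monomial μ (1 : k) = monomial (μ - Finsupp.single l (μ l)) 1 * X l ^ μ l by
    rw [X_pow_eq_monomial, monomial_mul, one_mul,
      tsub_add_cancel_of_le (Finsupp.single_le_iff.2 le_rfl)]]
  refine Ideal.mul_mem_left _ _ ?_
  rw [← Nat.sub_add_cancel hle, pow_add]
  exact Ideal.mul_mem_left _ _ (hM l)

/-- If the specialised system contains all monomials of degree `N`, so does the system on a
principal open neighbourhood in the parameters. -/
theorem exists_delta [Fintype σ] [DecidableEq σ] (φ : R →+* k) (hφ : Function.Surjective φ)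
    (g : α → MvPolynomial σ R) (dd : α → ℕ) (hg : ∀ x, (g x).IsHomogeneous (dd x)) (N : ℕ)
    (h : ∀ μ : σ →₀ ℕ, μ.degree = N →
      monomial μ (1 : k) ∈ Ideal.span (Set.range fun x => MvPolynomial.map φ (g x))) :
    ∃ Δ : R, φ Δ = 1 ∧ ∀ μ : σ →₀ ℕ, μ.degree = N →
      C Δ * monomial μ (1 : R) ∈ Ideal.span (Set.range g) := by
  classical
  let S := Finset.finsuppAntidiag (Finset.univ : Finset σ) N
  have hS : ∀ μ : σ →₀ ℕ, μ ∈ S ↔ μ.degree = N := fun μ => by
    simp [S, Finset.mem_finsuppAntidiag, Finsupp.degree_eq_sum]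
  choose c hc using fun μ : S => (Ideal.mem_span_range_iff_exists_fun).1 (h μ.1 ((hS μ.1).1 μ.2))
  choose c' hc' using fun (μ : S) x => MvPolynomial.map_surjective φ hφ (c μ x)
  let v : S → MvPolynomial σ R := fun μ => homogeneousComponent N (∑ x, c' μ x * g x)
  have hv : ∀ μ, v μ ∈ Ideal.span (Set.range g) := fun μ => by
    simp only [v, map_sum, homogeneousComponent_mul_hom (hg _)]
    refine Ideal.sum_mem _ fun x _ => ?_
    split_ifs
    · exact Ideal.mul_mem_left _ _ (Ideal.subset_span ⟨x, rfl⟩)
    · exact Ideal.zero_mem _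
  let A : Matrix S S R := Matrix.of fun μ ν => coeff ν.1 (v μ)
  have hvA : ∀ μ, v μ = ∑ ν : S, C (A μ ν) * monomial ν.1 1 := fun μ => by
    conv_lhs => rw [(v μ).as_sum]
    simp only [C_mul_monomial, mul_one, A, Matrix.of_apply]
    rw [Finset.sum_coe_sort S (fun ν => monomial ν (coeff ν (v μ)))]
    refine Finset.sum_subset (fun ν hν => ?_) fun ν _ hν => ?_
    · exact (hS ν).2 (by
        have := homogeneousComponent_isHomogeneous N (∑ x, c' μ x * g x) (mem_support_iff.1 hν)
        rwa [Finsupp.degree_eq_weight_one])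
    · rw [notMem_support_iff.1 hν, monomial_zero]
  have hφA : φ.mapMatrix A = 1 := by
    ext μ ν
    simp only [RingHom.mapMatrix_apply, Matrix.map_apply, Matrix.of_apply, A, v, coeff_homogeneousComponent,
      (hS ν.1).1 ν.2, if_true]
    rw [← coeff_map, map_sum]
    simp only [map_mul, hc']
    rw [hc μ, coeff_monomial, Matrix.one_apply]
    by_cases hμν : μ = ν
    · subst hμν; rw [if_pos rfl, if_pos rfl]
    · rw [if_neg (fun h => hμν (Subtype.ext h)), if_neg hμν]
  refine ⟨A.det, by rw [RingHom.map_det, hφA, Matrix.det_one], fun μ hμ => ?_⟩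
  have key : ∀ μ : S, C A.det * monomial μ.1 (1 : R) = ∑ ν : S, C (A.adjugate μ ν) * v ν := fun μ => by
    simp only [hvA, Finset.mul_sum, ← mul_assoc, ← map_mul]
    rw [Finset.sum_comm]
    simp only [← Finset.sum_mul, ← map_sum]
    have h1 : ∀ x : S, (∑ ν : S, A.adjugate μ ν * A ν x) = if μ = x then A.det else 0 := fun x => by
      have := congrFun (congrFun (Matrix.adjugate_mul A) μ) x
      rw [Matrix.mul_apply] at this
      rw [this, Matrix.smul_apply, Matrix.one_apply]
      split_ifs <;> simp
    simp only [h1]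
    rw [Finset.sum_eq_single μ (fun b _ hb => by rw [if_neg (Ne.symm hb), map_zero, zero_mul])
      (by simp), if_pos rfl]
  rw [key ⟨μ, (hS μ).2 hμ⟩]
  exact Ideal.sum_mem _ fun ν _ => Ideal.mul_mem_left _ _ (hv ν)

variable {ι κ : Type} [Fintype ι] [Fintype κ]

/-- On the open set `Δ ≠ 0`, every polynomial is integral over the parameters modulo the system
and fixed values of the linear forms `y`. -/
theorem exists_integral_relation [Fintype σ] [DecidableEq σ] (f : ι → MvPolynomial σ R) (df : ι → ℕ)
    (hf : ∀ i, (f i).IsHomogeneous (df i)) (y : κ → MvPolynomial σ R) (hy : ∀ j, (y j).IsHomogeneous 1)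
    (N : ℕ) (hN : 0 < N) (Δ : R)
    (hΔ : ∀ μ : σ →₀ ℕ, μ.degree = N → C Δ * monomial μ (1 : R) ∈ Ideal.span (Set.range (Sum.elim f y)))
    (a : κ → R) (r : MvPolynomial σ R) :
    ∃ (Q : Polynomial R) (D : ℕ), Q.Monic ∧
      ∀ (K : Type u) [Field K] (φ : R →+* K) (w : σ → K), (∀ i, eval₂ φ w (f i) = 0) →
        (∀ j, eval₂ φ w (y j) = φ (a j)) → Q.eval₂ φ (φ Δ ^ D * eval₂ φ w r) = 0 := by
  classical
  let J : Ideal (MvPolynomial σ R) := Ideal.span (Set.range f ∪ Set.range fun j => y j - C (a j))
  let q := Ideal.Quotient.mkₐ R J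
  let S : Finset (σ →₀ ℕ) := (Finset.range N).biUnion fun m => Finset.finsuppAntidiag Finset.univ m
  have hS : ∀ μ : σ →₀ ℕ, μ ∈ S ↔ μ.degree < N := fun μ => by
    simp [S, Finset.mem_finsuppAntidiag, Finsupp.degree_eq_sum]
  let M : Submodule R (MvPolynomial σ R ⧸ J) :=
    Submodule.span R (↑(S.image fun μ => q (monomial μ 1)) : Set (MvPolynomial σ R ⧸ J))
  have hmon : ∀ μ : σ →₀ ℕ, μ.degree < N → q (monomial μ 1) ∈ M := fun μ hμ =>
    Submodule.subset_span (Finset.mem_coe.2 (Finset.mem_image.2 ⟨μ, (hS μ).2 hμ, rfl⟩))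
  have hlow : ∀ p : MvPolynomial σ R, p.IsHomogeneous (N - 1) → q p ∈ M := fun p hp => by
    rw [p.as_sum, map_sum]
    refine Submodule.sum_mem _ fun μ hμ => ?_
    rw [show monomial μ (coeff μ p) = coeff μ p • monomial μ (1 : R) by simp [smul_monomial], map_smul]
    refine Submodule.smul_mem _ _ (hmon μ ?_)
    have := hp (mem_support_iff.1 hμ)
    have h1 : μ.degree = N - 1 := by simpa [Finsupp.degree_eq_weight_one, Pi.one_def] using this
    omega
  have htop : ∀ μ : σ →₀ ℕ, μ.degree ≤ N → q (C Δ * monomial μ 1) ∈ M := fun μ hμ => by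
    rcases hμ.eq_or_lt with h | h
    · obtain ⟨c, hc⟩ := Ideal.mem_span_range_iff_exists_fun.1 (hΔ μ h)
      have h1 := congrArg (homogeneousComponent N) hc
      rw [homogeneousComponent_C_mul, homogeneousComponent_eq_self (isHomogeneous_monomial _ h), map_sum,
        Fintype.sum_sum_type] at h1
      simp only [Sum.elim_inl, Sum.elim_inr, homogeneousComponent_mul_hom (hf _),
        homogeneousComponent_mul_hom (hy _)] at h1
      rw [← h1, map_add, map_sum, map_sum]
      refine Submodule.add_mem _ (Submodule.sum_mem _ fun i _ => ?_) (Submodule.sum_mem _ fun j _ => ?_)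
      · have h0 : q (f i) = 0 := Ideal.Quotient.eq_zero_iff_mem.2 (Ideal.subset_span (Or.inl ⟨i, rfl⟩))
        split_ifs
        · rw [map_mul, h0, mul_zero]; exact M.zero_mem
        · rw [map_zero]; exact M.zero_mem
      · have h0 : q (y j) = q (C (a j)) := Ideal.Quotient.eq.2 (Ideal.subset_span (Or.inr ⟨j, rfl⟩))
        rw [if_pos (by omega), map_mul, h0, ← map_mul, mul_comm, ← smul_eq_C_mul, map_smul]
        exact M.smul_mem _ (hlow _ (homogeneousComponent_isHomogeneous _ _))
    · rw [← smul_eq_C_mul, map_smul]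
      exact M.smul_mem _ (hmon μ h)
  have hstab : ∀ p : MvPolynomial σ R, ∃ D : ℕ, ∀ m ∈ M, q (C (Δ ^ D) * p) * m ∈ M := by
    intro p
    induction p using MvPolynomial.induction_on with
    | C c =>
        refine ⟨0, fun m hm => ?_⟩
        rw [pow_zero, C_1, one_mul, show q (C c) = algebraMap R _ c from q.commutes c, ← Algebra.smul_def]
        exact M.smul_mem _ hm
    | add p p' hp hp' =>
        obtain ⟨D, hD⟩ := hp
        obtain ⟨D', hD'⟩ := hp'
        refine ⟨D + D', fun m hm => ?_⟩
        have e : q (C (Δ ^ (D + D')) * (p + p')) * m =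
            Δ ^ D' • (q (C (Δ ^ D) * p) * m) + Δ ^ D • (q (C (Δ ^ D') * p') * m) := by
          have hs : ∀ (c : R) (z : MvPolynomial σ R ⧸ J), c • z = q (C c) * z := fun c z => by
            rw [show q (C c) = algebraMap R _ c from q.commutes c]; exact Algebra.smul_def c z
          simp only [hs, map_add, map_mul, pow_add]
          ring
        rw [e]
        exact M.add_mem (M.smul_mem _ (hD m hm)) (M.smul_mem _ (hD' m hm))
    | mul_X p l hp =>
        obtain ⟨D, hD⟩ := hp
        refine ⟨D + 1, fun m hm => ?_⟩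
        rw [show q (C (Δ ^ (D + 1)) * (p * X l)) * m = q (C (Δ ^ D) * p) * (q (C Δ * X l) * m) by
          simp only [map_mul, pow_succ]
          ring]
        refine hD _ ?_
        have : M ≤ M.comap (LinearMap.mulLeft R (q (C Δ * X l))) := by
          refine Submodule.span_le.2 fun b hb => ?_
          obtain ⟨μ, hμ, rfl⟩ := Finset.mem_image.1 (Finset.mem_coe.1 hb)
          show q (C Δ * X l) * q (monomial μ 1) ∈ M
          rw [← map_mul, mul_assoc, X, monomial_mul, one_mul]
          refine htop _ ?_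
          have := (hS μ).1 hμ
          rw [map_add, Finsupp.degree_single]
          omega
        exact this hm
  obtain ⟨D, hD⟩ := hstab r
  let b := q (C (Δ ^ D) * r)
  let φm : Module.End R M := (LinearMap.mulLeft R b).restrict hD
  haveI : Module.Finite R M := Module.Finite.span_of_finite R (Finset.finite_toSet _)
  obtain ⟨Q, hQm, hQ⟩ := LinearMap.exists_monic_and_aeval_eq_zero R φm
  have haev : ∀ (P : Polynomial R) (m : M),
      ((Polynomial.aeval φm P m : M) : MvPolynomial σ R ⧸ J) = Polynomial.aeval b P * m := by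
    intro P
    induction P using Polynomial.induction_on with
    | C c => intro m; rw [Polynomial.aeval_C, Polynomial.aeval_C, ← Algebra.smul_def]; rfl
    | add p p' hp hp' => intro m; simp [hp, hp', add_mul]
    | monomial n c ih =>
        intro m
        rw [pow_succ, ← mul_assoc, map_mul, map_mul (Polynomial.aeval b), Module.End.mul_apply, ih,
          Polynomial.aeval_X, Polynomial.aeval_X, mul_assoc]
        rfl
  have hb : Polynomial.aeval b Q = 0 := by
    have h1 : q (monomial 0 1) ∈ M := hmon 0 (by simp [hN])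
    have h2 := haev Q ⟨_, h1⟩
    rw [hQ] at h2
    simpa using h2.symm
  refine ⟨Q, D, hQm, fun K _ φ w hw1 hw2 => ?_⟩
  have hJ : J ≤ RingHom.ker (eval₂Hom φ w) := Ideal.span_le.2 (by
    rintro x (⟨i, rfl⟩ | ⟨j, rfl⟩)
    · exact hw1 i
    · simp [hw2 j])
  let ψ : MvPolynomial σ R ⧸ J →+* K := Ideal.Quotient.lift J (eval₂Hom φ w) hJ
  have h1 := congrArg ψ hb
  rw [map_zero, Polynomial.aeval_def, Polynomial.hom_eval₂] at h1
  rw [← h1]
  congr 1
  · refine RingHom.ext fun c => ?_
    show φ c = eval₂Hom φ w (C c)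
    simp
  · show _ = eval₂Hom φ w (C (Δ ^ D) * r)
    simp

end Groth.Agent.Gen15
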