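import Mathlib
import Groth.Prelude.Def_LefPen
import Groth.Agent.Gen15.FiniteProj

/-! The locus of tuples of forms of degrees `1, …, d` with too big a common zero set depends on at
most (number of coefficients) minus (number of variables) parameters. -/

set_option autoImplicit false

open MvPolynomial

namespace Groth.Agent.Gen15

universe u

variable {k : Type u} [Field k]

theorem eval_aeval_pt {σ τ : Type} (g : σ → MvPolynomial τ k) (t : τ → k) (P : MvPolynomial σ k) :
    eval t (aeval g P) = eval (fun b => eval t (g b)) P := by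
  induction P using MvPolynomial.induction_on with
  | C a => rw [aeval_C, algebraMap_eq, eval_C, eval_C]
  | add p q hp hq => rw [map_add, map_add, map_add, hp, hq]
  | mul_X p j hp => rw [map_mul, map_mul, map_mul, hp, aeval_X, eval_X]

/-- Any family of more than `s` polynomial functions satisfies a non-trivial relation on `D`. -/
def DepSet {τ : Type} (D : Set (τ → k)) (s : ℕ) : Prop :=
  ∀ (κ : Type) [Fintype κ], s < Fintype.card κ → ∀ y : κ → MvPolynomial τ k,
    ∃ Φ : MvPolynomial κ k, Φ ≠ 0 ∧ ∀ p ∈ D, eval (fun a => eval p (y a)) Φ = 0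

theorem DepSet.mono {τ : Type} {D D' : Set (τ → k)} {s : ℕ} (h : DepSet D s) (hD : D' ⊆ D) :
    DepSet D' s := fun κ _ hs y =>
  let ⟨Φ, h0, h1⟩ := h κ hs y; ⟨Φ, h0, fun p hp => h1 p (hD hp)⟩

theorem DepSet.biUnion {τ : Type} {α : Type u} (S : Finset α) (D : α → Set (τ → k)) {s : ℕ}
    (h : ∀ a ∈ S, DepSet (D a) s) : DepSet (⋃ a ∈ S, D a) s := fun κ _ hs y => by
  choose Φ h0 h1 using fun a : S => h a.1 a.2 κ hs y
  refine ⟨∏ a : S, Φ a, Finset.prod_ne_zero_iff.2 fun a _ => h0 a, fun p hp => ?_⟩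
  simp only [Set.mem_iUnion] at hp
  obtain ⟨a, ha, hpa⟩ := hp
  rw [map_prod]
  exact Finset.prod_eq_zero (Finset.mem_univ ⟨a, ha⟩) (h1 ⟨a, ha⟩ p hpa)

theorem DepSet.image {τ τ' : Type} {D : Set (τ → k)} {s : ℕ} (h : DepSet D s)
    (g : τ' → MvPolynomial τ k) : DepSet ((fun p => fun x => eval p (g x)) '' D) s := fun κ _ hs y => by
  obtain ⟨Φ, h0, h1⟩ := h κ hs fun a => aeval g (y a)
  refine ⟨Φ, h0, ?_⟩
  rintro _ ⟨p, hp, rfl⟩
  simpa only [eval_aeval_pt] using h1 p hp

theorem depSet_of_relations {τ Θ L : Type} [Fintype τ] [Fintype Θ] [Fintype L]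
    (θ : Θ → MvPolynomial τ k) (z : L → MvPolynomial τ k) (p0 : τ → MvPolynomial τ k)
    (hp0 : ∀ x, p0 x ∈ Algebra.adjoin k (Set.range θ))
    (hX : ∀ x, X x ∈ Algebra.adjoin k (Set.range θ ∪ Set.range z))
    (Δ : MvPolynomial τ k) (Q : L → Polynomial (MvPolynomial τ k)) (hQ : ∀ l, (Q l).Monic) (D : L → ℕ) :
    DepSet {p : τ → k | eval (fun x => eval p (p0 x)) Δ ≠ 0 ∧ ∀ l,
        (Q l).eval₂ (eval fun x => eval p (p0 x))
          (eval (fun x => eval p (p0 x)) Δ ^ D l * eval p (z l)) = 0} (Fintype.card Θ) := by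
  classical
  intro κ _ hs y
  let Δ' : MvPolynomial τ k := aeval p0 Δ
  let rel : L → MvPolynomial τ k := fun l => (Q l).eval₂ (aeval p0).toRingHom (Δ' ^ D l * z l)
  let I : Ideal (MvPolynomial τ k) := Ideal.span (Set.range rel)
  have hfin : {P ∈ I.minimalPrimes | Δ' ∉ P}.Finite :=
    (Ideal.finite_minimalPrimes_of_isNoetherianRing _ I).subset fun _ hx => hx.1
  have hex : ∀ P ∈ hfin.toFinset, ∃ Φ : MvPolynomial κ k, Φ ≠ 0 ∧ aeval y Φ ∈ P := by
    intro P hP
    rw [Set.Finite.mem_toFinset] at hP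
    obtain ⟨hP, hΔP⟩ := hP
    haveI := hP.1.1
    let q := Ideal.Quotient.mkₐ k P
    let A := Algebra.adjoin k (Set.range fun t => q (θ t))
    have hmap : ∀ t ∈ Algebra.adjoin k (Set.range θ), q t ∈ A := fun t ht => by
      have h1 : (Algebra.adjoin k (Set.range θ)).map q = A := by
        rw [AlgHom.map_adjoin, ← Set.range_comp]; rfl
      exact h1 ▸ Subalgebra.mem_map.2 ⟨t, ht, rfl⟩
    let ψ : MvPolynomial τ k →ₐ[k] A := aeval fun x => ⟨q (p0 x), hmap _ (hp0 x)⟩
    have hψ : ∀ f, (ψ f : MvPolynomial τ k ⧸ P) = q (aeval p0 f) := fun f => by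
      induction f using MvPolynomial.induction_on with
      | C a => simp [ψ]
      | add f g hf hg => simp [hf, hg]
      | mul_X f x hf => simp [hf, ψ]
    have halgz : ∀ l, IsAlgebraic A (q (z l)) := fun l => by
      refine ⟨((Q l).map ψ.toRingHom).comp (Polynomial.C (ψ Δ ^ D l) * Polynomial.X), ?_, ?_⟩
      · intro h0
        have hδ : ψ Δ ≠ 0 := fun h => hΔP (Ideal.Quotient.eq_zero_iff_mem.1
          ((hψ Δ).symm.trans (by rw [h]; rfl)))
        rcases Polynomial.comp_eq_zero_iff.1 h0 with h1 | ⟨-, h1⟩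
        · exact ((hQ l).map _).ne_zero h1
        · have hdeg := congrArg Polynomial.natDegree h1
          rw [Polynomial.natDegree_C_mul_X _ (pow_ne_zero _ hδ), Polynomial.natDegree_C] at hdeg
          exact one_ne_zero hdeg
      · have h1 : q (rel l) = 0 :=
          Ideal.Quotient.eq_zero_iff_mem.2 (hP.1.2 (Ideal.subset_span ⟨l, rfl⟩))
        rw [Polynomial.aeval_comp, map_mul, Polynomial.aeval_C, Polynomial.aeval_X,
          Polynomial.aeval_def, Polynomial.eval₂_map, ← h1]
        show _ = q.toRingHom ((Q l).eval₂ _ _)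
        rw [Polynomial.hom_eval₂]
        congr 1
        · exact RingHom.ext fun f => hψ f
        · show (ψ Δ ^ D l : A).1 * q (z l) = q (Δ' ^ D l * z l)
          rw [map_mul, map_pow, SubmonoidClass.coe_pow, hψ]
    haveI : Algebra.IsAlgebraic A (MvPolynomial τ k ⧸ P) := ⟨fun b => by
      obtain ⟨f, rfl⟩ := Ideal.Quotient.mkₐ_surjective k P b
      let C0 := (Subalgebra.algebraicClosure A (MvPolynomial τ k ⧸ P)).restrictScalars k
      have hgen : Algebra.adjoin k (Set.range θ ∪ Set.range z) ≤ C0.comap q := by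
        refine Algebra.adjoin_le ?_
        rintro x (⟨t, rfl⟩ | ⟨l, rfl⟩)
        · exact isAlgebraic_algebraMap (⟨q (θ t), Algebra.subset_adjoin ⟨t, rfl⟩⟩ : A)
        · exact halgz l
      have htop : ∀ f : MvPolynomial τ k, f ∈ C0.comap q := fun f => by
        induction f using MvPolynomial.induction_on with
        | C a => exact (C0.comap q).algebraMap_mem a
        | add f g hf hg => exact add_mem hf hg
        | mul_X f x hf => exact mul_mem hf (hgen (hX x))
      exact htop f⟩
    by_contra hc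
    push Not at hc
    have hi : AlgebraicIndependent k fun a => q (y a) := algebraicIndependent_iff.2 fun f hf => by
      by_contra hf0
      exact hc f hf0 (Ideal.Quotient.eq_zero_iff_mem.1 ((DFunLike.congr_fun (comp_aeval y q) f).trans hf))
    have h1 := hi.lift_cardinalMk_le_trdeg
    have h2 : Algebra.trdeg k (MvPolynomial τ k ⧸ P) ≤ Cardinal.mk (Set.range fun t => q (θ t)) :=
      Algebra.IsAlgebraic.trdeg_le_cardinalMk k (Set.range fun t => q (θ t))
    have h3 : Cardinal.mk (Set.range fun t => q (θ t)) ≤ (Fintype.card Θ : Cardinal) := by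
      rw [Cardinal.mk_fintype, Nat.cast_le]; exact Fintype.card_range_le _
    rw [Cardinal.mk_fintype, Cardinal.lift_natCast] at h1
    have h4 : (Fintype.card κ : Cardinal) ≤ (Fintype.card Θ : Cardinal) :=
      h1.trans (by simpa using h2.trans h3)
    rw [Nat.cast_le] at h4
    omega
  choose Φ hΦ0 hΦ using hex
  refine ⟨∏ P : hfin.toFinset, Φ P.1 P.2, Finset.prod_ne_zero_iff.2 fun P _ => hΦ0 _ _, fun p hp => ?_⟩
  obtain ⟨hpΔ, hprel⟩ := hp
  haveI : (RingHom.ker (eval p)).IsPrime := RingHom.ker_isPrime _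
  obtain ⟨P, hP, hPJ⟩ := Ideal.exists_minimalPrimes_le (I := I) (J := RingHom.ker (eval p))
    (Ideal.span_le.2 (by
      rintro _ ⟨l, rfl⟩
      show eval p ((Q l).eval₂ _ _) = 0
      rw [Polynomial.hom_eval₂, ← hprel l, map_mul, map_pow]
      congr 1
      · exact RingHom.ext fun f => eval_aeval_pt p0 p f
      · rw [eval_aeval_pt]))
  have hmem : P ∈ hfin.toFinset := hfin.mem_toFinset.2 ⟨hP, fun h => hpΔ (by
    rw [← eval_aeval_pt]; exact hPJ h)⟩
  rw [map_prod]
  refine Finset.prod_eq_zero (Finset.mem_univ ⟨P, hmem⟩) ?_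
  rw [← eval_aeval_pt]
  exact hPJ (hΦ P hmem)

theorem exists_dual_points {X' : Type u} {L : Type} [Fintype L] [DecidableEq L] (q : L → X' → k)
    (hq : LinearIndependent k q) :
    ∃ (a : L → X') (c : L → L → k),
      ∀ l l', ∑ j, c l j * q j (a l') = if l = l' then 1 else 0 := by
  classical
  let v : X' → L → k := fun x j => q j x
  have hspan : Submodule.span k (Set.range v) = ⊤ := by
    by_contra hne
    obtain ⟨φ, hφ, hle⟩ := Submodule.exists_dual_map_eq_bot_of_lt_top (lt_top_iff_ne_top.2 hne)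
      inferInstance
    have h0 : ∀ j, φ (Pi.single j 1) = 0 := by
      refine Fintype.linearIndependent_iff.1 hq (fun j => φ (Pi.single j 1)) (funext fun x => ?_)
      have h1 : φ (v x) = 0 := by
        have : φ (v x) ∈ (Submodule.span k (Set.range v)).map φ :=
          Submodule.mem_map_of_mem (Submodule.subset_span ⟨x, rfl⟩)
        rw [hle] at this
        exact (Submodule.mem_bot k).1 this
      simp only [Finset.sum_apply, Pi.smul_apply, smul_eq_mul, Pi.zero_apply]
      rw [← h1]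
      conv_rhs => rw [pi_eq_sum_univ' (v x)]
      rw [map_sum]
      refine Finset.sum_congr rfl fun j _ => ?_
      rw [map_smul, smul_eq_mul, mul_comm]
    exact hφ ((Pi.basisFun k L).ext fun j => by simpa using h0 j)
  obtain ⟨b, hbsub, hbspan, hbli⟩ := exists_linearIndependent k (Set.range v)
  let B : Module.Basis b k (L → k) := Module.Basis.mk hbli (by
    rw [Subtype.range_coe, hbspan, hspan])
  haveI : Fintype b := FiniteDimensional.fintypeBasisIndex B
  have hcard : Fintype.card b = Fintype.card L := by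
    rw [← Module.finrank_eq_card_basis B, Module.finrank_fintype_fun_eq_card]
  let e : b ≃ L := Fintype.equivOfCardEq hcard
  have hpre : ∀ l, ∃ x, v x = (e.symm l : b).1 := fun l => hbsub (e.symm l).2
  choose a ha using hpre
  let B' := B.reindex e
  refine ⟨a, fun l j => B'.repr (Pi.single j 1) l, fun l l' => ?_⟩
  have hBv : B' l' = v (a l') := by rw [ha, Module.Basis.reindex_apply, Module.Basis.coe_mk]
  have h1 : B'.repr (v (a l')) l = if l = l' then 1 else 0 := by
    rw [← hBv, Module.Basis.repr_self, Finsupp.single_apply]; simp [eq_comm]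
  rw [← h1]
  conv_rhs => rw [pi_eq_sum_univ' (v (a l'))]
  rw [map_sum, Finsupp.finsetSum_apply]
  refine Finset.sum_congr rfl fun j _ => ?_
  rw [map_smul, Finsupp.smul_apply, smul_eq_mul, mul_comm]

theorem self_le_choose {n r : ℕ} (h1 : 1 ≤ r) (h2 : r + 1 ≤ n) : n ≤ n.choose r := by
  induction n generalizing r with
  | zero => omega
  | succ n ih =>
      obtain ⟨r, rfl⟩ : ∃ r', r = r' + 1 := ⟨r - 1, by omega⟩
      rw [Nat.choose_succ_succ']
      rcases Nat.eq_zero_or_pos r with hr | hr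
      · subst hr; simp only [Nat.zero_add, Nat.choose_zero_right, Nat.choose_one_right]; omega
      · have h3 := ih hr (by omega)
        have h4 : 0 < n.choose (r + 1) := Nat.choose_pos (by omega)
        omega

section Tuples

variable (M : ℕ) (k)

/-- Index of the coefficients of a tuple of forms of degrees `1, …, d`. -/
abbrev IdxE (d : ℕ) : Type := Σ j : Fin d, Fin (Module.finrank k (LefPen.Form M k (j.1 + 1)))

instance finite_form' (e : ℕ) : Module.Finite k (LefPen.Form M k e) :=
  Module.Finite.iff_fg.2 (homogeneousSubmodule_fg _ _ _)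

noncomputable def bB (e : ℕ) :
    Module.Basis (Fin (Module.finrank k (LefPen.Form M k e))) k (LefPen.Form M k e) :=
  Module.finBasis k _

variable {M k} {d : ℕ} {π : Type}

/-- The form of degree `j + 1` with the given coefficients. -/
noncomputable def formAt (p : π ⊕ IdxE k M d → k) (j : Fin d) : LefPen.Form M k (j.1 + 1) :=
  ∑ a, p (Sum.inr ⟨j, a⟩) • bB k M (j.1 + 1) a

/-- The generic form. -/
noncomputable def univF (j : Fin d) : MvPolynomial (Fin (M + 1)) (MvPolynomial (π ⊕ IdxE k M d) k) :=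
  ∑ a, C (X (Sum.inr ⟨j, a⟩)) * MvPolynomial.map C (bB k M (j.1 + 1) a).1

theorem univF_hom (j : Fin d) :
    (univF (π := π) (k := k) (M := M) j).IsHomogeneous (j.1 + 1) :=
  IsHomogeneous.sum _ _ _ fun a _ => ((bB k M (j.1 + 1) a).2.map _).C_mul _

theorem map_univF (p : π ⊕ IdxE k M d → k) (j : Fin d) :
    MvPolynomial.map (eval p) (univF j) = (formAt p j).1 := by
  simp only [univF, formAt, map_sum, map_mul, map_C, eval_X, map_map, Submodule.coe_sum,
    Submodule.coe_smul, smul_eq_C_mul]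
  refine Finset.sum_congr rfl fun a _ => ?_
  rw [show (eval p).comp C = RingHom.id k from RingHom.ext fun c => eval_C c, map_id]

theorem eval_univF (p : π ⊕ IdxE k M d → k) (j : Fin d) (w : Fin (M + 1) → k) :
    eval₂ (eval p) w (univF j) = eval w (formAt p j).1 := by
  rw [← map_univF p j, eval_map]

variable [IsAlgClosed k]

/-- The first `i` forms cut out the expected dimension. -/
def RegUpTo (G : (j : Fin d) → LefPen.Form M k (j.1 + 1)) (i : ℕ) : Prop :=
  ∃ Y : (Fin (M + 1) → k) →ₗ[k] (Fin (M + 1 - i) → k), Function.Surjective Y ∧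
    ∀ w, (∀ j : Fin d, j.1 < i → eval w (G j).1 = 0) → Y w = 0 → w = 0

theorem regUpTo_zero (G : (j : Fin d) → LefPen.Form M k (j.1 + 1)) : RegUpTo G 0 :=
  ⟨LinearMap.id, fun w => ⟨w, rfl⟩, fun _ _ h => h⟩

theorem eval_smul_hom {e : ℕ} {P : MvPolynomial (Fin (M + 1)) k} (hP : P.IsHomogeneous e) (c : k)
    (w : Fin (M + 1) → k) : eval (c • w) P = c ^ e * eval w P := by
  rw [eval_eq', eval_eq', Finset.mul_sum]
  refine Finset.sum_congr rfl fun μ hμ => ?_
  have hd : ∑ i, μ i = e := by
    rw [← Finsupp.degree_eq_sum]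
    simpa [Finsupp.degree_eq_weight_one, Pi.one_def] using hP (mem_support_iff.1 hμ)
  simp only [Pi.smul_apply, smul_eq_mul, mul_pow, Finset.prod_mul_distrib, Finset.prod_pow_eq_pow_sum, hd]
  ring

theorem bad_of_not_regUpTo_succ (G : (j : Fin d) → LefPen.Form M k (j.1 + 1)) (i : Fin d) (hi : i.1 ≤ M)
    (Y : (Fin (M + 1) → k) →ₗ[k] (Fin (M + 1 - i.1) → k)) (hY : Function.Surjective Y)
    (hYz : ∀ w, (∀ j : Fin d, j.1 < i.1 → eval w (G j).1 = 0) → Y w = 0 → w = 0)
    (hn : ¬ RegUpTo G (i.1 + 1)) (a : Fin (M + 1 - i.1) → k) :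
    ∃ w, (∀ j : Fin d, j.1 < i.1 → eval w (G j).1 = 0) ∧ Y w = a ∧ eval w (G i).1 = 0 := by
  by_contra hc
  push Not at hc
  apply hn
  have ha : a ≠ 0 := by
    intro ha
    refine hc 0 (fun j _ => ?_) (by rw [ha, map_zero]) ?_
    · simpa using eval_smul_hom (G j).2 0 0
    · simpa using eval_smul_hom (G i).2 0 0
  have hdim : Module.finrank k ((Fin (M + 1 - i.1) → k) ⧸ Submodule.span k {a}) =
      Module.finrank k (Fin (M + 1 - (i.1 + 1)) → k) := by
    rw [Submodule.finrank_quotient, finrank_span_singleton ha, Module.finrank_fin_fun,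
      Module.finrank_fin_fun]
    omega
  let e := LinearEquiv.ofFinrankEq _ _ hdim
  refine ⟨(e.toLinearMap ∘ₗ (Submodule.span k {a}).mkQ) ∘ₗ Y,
    (e.surjective.comp (Submodule.mkQ_surjective _)).comp hY, fun w hw hYw => ?_⟩
  have hw1 : ∀ j : Fin d, j.1 < i.1 → eval w (G j).1 = 0 := fun j hj => hw j (by omega)
  simp only [LinearMap.comp_apply, LinearEquiv.coe_coe, LinearEquiv.map_eq_zero_iff,
    Submodule.mkQ_apply, Submodule.Quotient.mk_eq_zero] at hYw
  obtain ⟨c, hc'⟩ := Submodule.mem_span_singleton.1 hYw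
  by_cases hc0 : c = 0
  · exact hYz w hw1 (by rw [← hc', hc0, zero_smul])
  · refine absurd ?_ (hc (c⁻¹ • w) (fun j hj => by rw [eval_smul_hom (G j).2, hw1 j hj, mul_zero])
      (by rw [map_smul, ← hc', inv_smul_smul₀ hc0]))
    rw [eval_smul_hom (G i).2, hw i (Nat.lt_succ_self _), mul_zero]

variable [Fintype π]

/-- The data of one stratum. -/
structure Chart (M d : ℕ) (k : Type u) [Field k] (π : Type) (i : Fin d) where
  Δ : MvPolynomial (π ⊕ IdxE k M d) k
  N : ℕ
  hN : 0 < N
  Y : (Fin (M + 1) → k) →ₗ[k] (Fin (M + 1 - i.1) → k)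
  hY : Function.Surjective Y
  invar : ∀ p p' : π ⊕ IdxE k M d → k,
    (∀ (j : Fin d) a, j.1 < i.1 → p (Sum.inr ⟨j, a⟩) = p' (Sum.inr ⟨j, a⟩)) → eval p Δ = eval p' Δ
  spec : ∀ μ : Fin (M + 1) →₀ ℕ, μ.degree = N → C Δ * monomial μ 1 ∈
    Ideal.span (Set.range (Sum.elim (fun j : {j : Fin d // j.1 < i.1} => univF (π := π) (k := k) (M := M) j.1)
      (fun l => ∑ x, C (C (Y (Pi.single x 1) l)) * X x)))

noncomputable def linForms {m : ℕ} (Y : (Fin (M + 1) → k) →ₗ[k] (Fin m → k)) (l : Fin m) :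
    MvPolynomial (Fin (M + 1)) k := ∑ x, C (Y (Pi.single x 1) l) * X x

omit [IsAlgClosed k] in
theorem eval_linForms {m : ℕ} (Y : (Fin (M + 1) → k) →ₗ[k] (Fin m → k)) (w : Fin (M + 1) → k)
    (l : Fin m) : eval w (linForms Y l) = Y w l := by
  conv_rhs => rw [pi_eq_sum_univ' w]
  simp only [linForms, map_sum, map_mul, eval_C, eval_X, Finset.sum_apply, map_smul, Pi.smul_apply,
    smul_eq_mul, mul_comm]

theorem exists_chart_nhds (i : Fin d) (p : π ⊕ IdxE k M d → k)
    (h : RegUpTo (fun j => formAt p j) i.1) :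
    ∃ c : Chart M d k π i, eval p c.Δ ≠ 0 := by
  classical
  obtain ⟨Y, hY, hYz⟩ := h
  let g : ({j : Fin d // j.1 < i.1} ⊕ Fin (M + 1 - i.1)) →
      MvPolynomial (Fin (M + 1)) (MvPolynomial (π ⊕ IdxE k M d) k) :=
    Sum.elim (fun j => univF j.1) (fun l => ∑ x, C (C (Y (Pi.single x 1) l)) * X x)
  let low : π ⊕ IdxE k M d → Prop := Sum.elim (fun _ => False) fun x => x.1.1 < i.1
  let ρ : MvPolynomial (π ⊕ IdxE k M d) k →ₐ[k] MvPolynomial (π ⊕ IdxE k M d) k :=
    aeval fun x => if low x then X x else 0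
  let p' : π ⊕ IdxE k M d → k := fun x => if low x then p x else 0
  have hg : ∀ x, MvPolynomial.map ρ.toRingHom (g x) = g x := by
    rintro (j | l)
    · simp only [g, Sum.elim_inl, univF, map_sum, map_mul, map_C, map_map]
      refine Finset.sum_congr rfl fun a _ => ?_
      have h1 : ρ.toRingHom.comp C = C := RingHom.ext fun c => by simp [ρ]
      rw [h1]
      have hlo : j.1 < i := j.2
      simp [ρ, low, hlo]
    · simp [g, ρ, map_sum]
  have hform : ∀ j : Fin d, j.1 < i.1 → formAt p' j = formAt p j := fun j hj =>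
    Finset.sum_congr rfl fun a _ => by simp [p', low, show j < i from hj]
  have hgp : ∀ x, MvPolynomial.map (eval p') (g x) =
      Sum.elim (fun j : {j : Fin d // j.1 < i.1} => (formAt p j.1).1) (linForms Y) x := by
    rintro (j | l)
    · rw [Sum.elim_inl, ← hform j.1 j.2]; exact map_univF p' j.1
    · simp [g, linForms, map_sum]
  obtain ⟨N, hN, hmem⟩ := exists_monomials_mem (fun x => MvPolynomial.map (eval p') (g x)) fun w hw =>
    hYz w (fun j hj => by simpa [hgp] using hw (Sum.inl ⟨j, hj⟩))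
      (funext fun l => by simpa [hgp, eval_linForms] using hw (Sum.inr l))
  have hghom : ∀ x, (g x).IsHomogeneous
      (Sum.elim (fun j : {j : Fin d // j.1 < i.1} => j.1.1 + 1) (fun _ => 1) x) := by
    rintro (j | l)
    · exact univF_hom j.1
    · exact IsHomogeneous.sum _ _ _ fun x _ => (isHomogeneous_X _ x).C_mul _
  obtain ⟨Δ, hΔ1, hΔ⟩ := exists_delta (eval p') (fun c => ⟨C c, eval_C c⟩) g _ hghom N hmem
  have hρ : ∀ (p₁ : π ⊕ IdxE k M d → k), eval p₁ (ρ Δ) = eval (fun x => if low x then p₁ x else 0) Δ := by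
    intro p₁
    rw [eval_aeval_pt]
    congr 2
    funext x
    split_ifs <;> simp
  refine ⟨⟨ρ Δ, N, hN, Y, hY, fun p₁ p₂ h12 => ?_, fun μ hμ => ?_⟩, ?_⟩
  · rw [hρ, hρ]
    congr 2
    funext x
    rcases x with x | ⟨j, a⟩
    · simp [low]
    · by_cases hj : j.1 < i.1
      · simp [low, show j < i from hj, h12 j a hj]
      · simp [low, show ¬ j < i from hj]
  · obtain ⟨c, hc⟩ := Ideal.mem_span_range_iff_exists_fun.1 (hΔ μ hμ)
    have h1 := congrArg (MvPolynomial.map ρ.toRingHom) hc
    simp only [map_sum, map_mul, hg, map_C, map_monomial, map_one] at h1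
    exact Ideal.mem_span_range_iff_exists_fun.2 ⟨_, h1⟩
  · rw [hρ]
    show eval p' Δ ≠ 0
    rw [hΔ1]; exact one_ne_zero

theorem depSet_stratum (hdM : d ≤ M) (i : Fin d) (c : Chart M d k π i) :
    DepSet {p : π ⊕ IdxE k M d → k | eval p c.Δ ≠ 0 ∧ ∀ a, ∃ w,
        (∀ j : Fin d, j.1 < i.1 → eval w (formAt p j).1 = 0) ∧ c.Y w = a ∧ eval w (formAt p i).1 = 0}
      (Fintype.card π + Fintype.card (IdxE k M d) - (M + 1)) := by
  classical
  let m := M + 1 - i.1
  let SL : Finset (Fin m →₀ ℕ) := Finset.finsuppAntidiag Finset.univ (i.1 + 1)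
  have hqli : LinearIndependent k fun μ : ↥SL => fun a : Fin m → k => eval a (monomial μ.1 (1 : k)) := by
    refine Fintype.linearIndependent_iff.2 fun g hg μ => ?_
    have h0 : ∑ ν : ↥SL, C (g ν) * monomial ν.1 (1 : k) = 0 := MvPolynomial.funext fun a => by
      have := congrFun hg a
      simpa [Finset.sum_apply, map_sum] using this
    have h1 := congrArg (coeff μ.1) h0
    simpa [coeff_sum, coeff_monomial, Subtype.val_inj] using h1
  obtain ⟨a, cc, hac⟩ := exists_dual_points _ hqli
  choose s hs using fun l : ↥SL => c.hY (a l)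
  let Fp : ↥SL → LefPen.Form M k (i.1 + 1) := fun l =>
    ⟨∑ μ : ↥SL, C (cc l μ) * aeval (linForms c.Y) (monomial μ.1 (1 : k)), Submodule.sum_mem _ fun μ _ => by
      refine IsHomogeneous.C_mul ?_ _
      have h1 : (monomial μ.1 (1 : k)).IsHomogeneous (i.1 + 1) := isHomogeneous_monomial 1 (by
        have := (Finset.mem_finsuppAntidiag.1 μ.2).1
        rw [Finsupp.degree_eq_sum]; exact this)
      have h2 := h1.aeval (linForms c.Y) fun l => IsHomogeneous.sum _ _ _ fun x _ =>
        (isHomogeneous_X k x).C_mul _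
      rwa [one_mul] at h2⟩
  have hFp : ∀ l (l' : ↥SL) (w : Fin (M + 1) → k), c.Y w = a l' →
      eval w (Fp l).1 = if l = l' then 1 else 0 := fun l l' w hw => by
    rw [← hac l l']
    simp only [Fp, map_sum, map_mul, eval_C, eval_aeval_pt, eval_linForms, hw]
  have hFs : ∀ l' l, eval (s l) (Fp l').1 = if l' = l then 1 else 0 := fun l' l => hFp l' l (s l) (hs l)
  let ev : LefPen.Form M k (i.1 + 1) →ₗ[k] (↥SL → k) :=
    LinearMap.pi fun l => (MvPolynomial.aeval (s l)).toLinearMap ∘ₗ Submodule.subtype _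
  have hev : ∀ f l, ev f l = eval (s l) f.1 := fun f l => by simp [ev, aeval_eq_eval]
  let pr : LefPen.Form M k (i.1 + 1) →ₗ[k] LinearMap.ker ev :=
    LinearMap.codRestrict _ (LinearMap.id - (Fintype.linearCombination k Fp) ∘ₗ ev) fun f => by
      rw [LinearMap.mem_ker]
      funext l
      simp only [LinearMap.sub_apply, LinearMap.id_apply, LinearMap.comp_apply, map_sub, Pi.sub_apply,
        Fintype.linearCombination_apply, map_sum, map_smul, Finset.sum_apply, Pi.smul_apply,
        smul_eq_mul, Pi.zero_apply, hev, hFs]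
      simp [hFs]
  haveI : Module.Free k (LinearMap.ker ev) := Module.Free.of_divisionRing k ↥(LinearMap.ker ev)
  let bK := Module.finBasis k (LinearMap.ker ev)
  let b := bB k M (i.1 + 1)
  let θ : (π ⊕ {x : IdxE k M d // x.1 ≠ i}) ⊕ Fin (Module.finrank k (LinearMap.ker ev)) →
      MvPolynomial (π ⊕ IdxE k M d) k :=
    Sum.elim (Sum.elim (fun x => X (Sum.inl x)) fun x => X (Sum.inr x.1))
      fun q => ∑ r, X (Sum.inr ⟨i, r⟩) * C (bK.repr (pr (b r)) q)
  let z : ↥SL → MvPolynomial (π ⊕ IdxE k M d) k := fun l =>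
    ∑ r, X (Sum.inr ⟨i, r⟩) * C (eval (s l) (b r).1)
  let p0 : π ⊕ IdxE k M d → MvPolynomial (π ⊕ IdxE k M d) k :=
    Sum.elim (fun x => X (Sum.inl x)) fun x =>
      if h : x.1 = i then ∑ q, θ (Sum.inr q) * C (b.repr (bK q).1 (h ▸ x.2)) else X (Sum.inr x)
  have hp0i : ∀ (p : π ⊕ IdxE k M d → k) (r),
      eval p (p0 (Sum.inr ⟨i, r⟩)) = b.repr (pr (formAt p i)).1 r := by
    intro p r
    have hθq : ∀ q, eval p (θ (Sum.inr q)) = bK.repr (pr (formAt p i)) q := fun q => by
      simp [θ, formAt, map_sum, b]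
    simp only [p0, Sum.elim_inr, dif_pos, map_sum, map_mul, eval_C, hθq]
    have h := congrArg (fun v : LinearMap.ker ev => b.repr v.1 r) (bK.sum_repr (pr (formAt p i)))
    simp only [Submodule.coe_sum, map_sum, Submodule.coe_smul, map_smul, Finsupp.finsetSum_apply,
      Finsupp.smul_apply, smul_eq_mul] at h
    exact h
  have hzev : ∀ (p : π ⊕ IdxE k M d → k) l, eval p (z l) = eval (s l) (formAt p i).1 := fun p l => by
    simp [z, formAt, map_sum, b]
  have hdec : ∀ (f : LefPen.Form M k (i.1 + 1)), f = (pr f).1 + ∑ l, eval (s l) f.1 • Fp l := fun f => by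
    simp [pr, Fintype.linearCombination_apply, hev]
  have hθmem : ∀ t, θ t ∈ Algebra.adjoin k (Set.range θ) := fun t => Algebra.subset_adjoin ⟨t, rfl⟩
  have hp0mem : ∀ x, p0 x ∈ Algebra.adjoin k (Set.range θ) := by
    rintro (x | x)
    · exact hθmem (Sum.inl (Sum.inl x))
    · simp only [p0, Sum.elim_inr]
      split_ifs with h
      · exact sum_mem fun q _ => mul_mem (hθmem (Sum.inr q)) (Subalgebra.algebraMap_mem _ _)
      · exact hθmem (Sum.inl (Sum.inr ⟨x, h⟩))
  have hX : ∀ x, X x ∈ Algebra.adjoin k (Set.range θ ∪ Set.range z) := by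
    have hsub := Algebra.adjoin_mono (R := k) (Set.subset_union_left (s := Set.range θ) (t := Set.range z))
    rintro (x | ⟨j, r⟩)
    · exact hsub (hθmem (Sum.inl (Sum.inl x)))
    · by_cases hj : j = i
      · subst hj
        have : X (Sum.inr ⟨j, r⟩) = p0 (Sum.inr ⟨j, r⟩) + ∑ l, z l * C (b.repr (Fp l) r) :=
          MvPolynomial.funext fun p => by
            rw [map_add, map_sum, eval_X, hp0i]
            have h1 : b.repr (formAt p j) r = p (Sum.inr ⟨j, r⟩) := by
              rw [formAt, Module.Basis.repr_sum_self]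
            rw [← h1]
            conv_lhs => rw [hdec (formAt p j)]
            simp [hzev, map_sum]
        rw [this]
        exact add_mem (hsub (hp0mem _)) (sum_mem fun l _ => mul_mem
          (Algebra.subset_adjoin (Or.inr ⟨l, rfl⟩)) (Subalgebra.algebraMap_mem _ _))
      · exact hsub (hθmem (Sum.inl (Sum.inr ⟨⟨j, r⟩, hj⟩)))
  choose Q D hQm hQ using fun l : ↥SL => exists_integral_relation
    (fun j : {j : Fin d // j.1 < i.1} => univF (π := π) (k := k) (M := M) j.1) (fun j => j.1.1 + 1)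
    (fun j => univF_hom j.1) (fun x => ∑ y, C (C (c.Y (Pi.single y 1) x)) * X y)
    (fun x => IsHomogeneous.sum _ _ _ fun y _ => (isHomogeneous_X _ y).C_mul _) c.N c.hN c.Δ c.spec
    (fun x => C (a l x)) (- univF i)
  have hdep := depSet_of_relations θ z p0 hp0mem hX c.Δ Q hQm D
  have hcard : Fintype.card ((π ⊕ {x : IdxE k M d // x.1 ≠ i}) ⊕ Fin (Module.finrank k (LinearMap.ker ev)))
      ≤ Fintype.card π + Fintype.card (IdxE k M d) - (M + 1) := by
    have hsurj : LinearMap.range ev = ⊤ := LinearMap.range_eq_top.2 fun v => ⟨∑ l, v l • Fp l, by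
      funext l
      simp only [map_sum, map_smul, Finset.sum_apply, Pi.smul_apply, smul_eq_mul, hev,
        hFs]
      simp [hFs]⟩
    have h1 := ev.finrank_range_add_finrank_ker
    rw [hsurj, finrank_top, Module.finrank_fintype_fun_eq_card] at h1
    have h2 : Fintype.card {x : IdxE k M d // x.1 = i} = Module.finrank k (LefPen.Form M k (i.1 + 1)) := by
      rw [Fintype.card_congr (Equiv.sigmaSubtype i), Fintype.card_fin]
    have h3 : Fintype.card ↥SL = (m + (i.1 + 1) - 1).choose (i.1 + 1) := by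
      rw [Fintype.card_coe, Finset.card_finsuppAntidiag_nat_eq_choose, Finset.card_univ, Fintype.card_fin]
    have h4 : M + 1 ≤ Fintype.card ↥SL := by
      rw [h3, show m + (i.1 + 1) - 1 = M + 1 by have := i.2; omega]
      exact self_le_choose (by omega) (by have := i.2; omega)
    have h5 : Fintype.card {x : IdxE k M d // x.1 ≠ i} = _ := Fintype.card_subtype_compl _
    have h6 := Fintype.card_subtype_le (fun x : IdxE k M d => x.1 = i)
    simp only [Fintype.card_sum, Fintype.card_fin]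
    omega
  intro κ _ hs' y
  obtain ⟨Φ, h0, hΦ⟩ := hdep κ (lt_of_le_of_lt hcard hs') y
  refine ⟨Φ, h0, fun p hp => hΦ p ?_⟩
  obtain ⟨hpΔ, hbad⟩ := hp
  have hp0ne : ∀ (j : Fin d) r, j ≠ i → eval p (p0 (Sum.inr ⟨j, r⟩)) = p (Sum.inr ⟨j, r⟩) :=
    fun j r hj => by simp [p0, hj]
  refine ⟨?_, fun l => ?_⟩
  · rw [c.invar _ p fun j r hj => hp0ne j r (fun h => by subst h; omega)]
    exact hpΔ
  · obtain ⟨w, hw1, hw2, hw3⟩ := hbad (a l)
    have hlow : ∀ j : Fin d, j.1 < i.1 → formAt (fun x => eval p (p0 x)) j = formAt p j := fun j hj =>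
      Finset.sum_congr rfl fun r _ => by
        show eval p _ • _ = _
        rw [hp0ne j r (fun h => by subst h; omega)]
    have hi0 : formAt (fun x => eval p (p0 x)) i = (pr (formAt p i)).1 := by
      rw [← b.sum_repr (pr (formAt p i)).1]
      exact Finset.sum_congr rfl fun r _ => by
        show eval p _ • _ = _
        rw [hp0i]
    have h := hQ l k (eval fun x => eval p (p0 x)) w
      (fun j => by rw [eval_univF, hlow j.1 j.2]; exact hw1 j.1 j.2)
      (fun x => by rw [eval_C, ← hw2, ← eval_linForms]; simp [linForms, eval₂_sum])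
    suffices hval : eval₂ (eval fun x => eval p (p0 x)) w (- univF (π := π) (k := k) (M := M) i) =
        eval p (z l) by rw [hval] at h; exact h
    rw [← coe_eval₂Hom, map_neg, coe_eval₂Hom, eval_univF, hi0, hzev]
    have h1 : eval w (formAt p i).1 =
        eval w ((pr (formAt p i)).1 + ∑ l', eval (s l') (formAt p i).1 • Fp l').1 := by
      rw [← hdec (formAt p i)]
    rw [hw3] at h1
    simp only [Submodule.coe_add, Submodule.coe_sum, Submodule.coe_smul, map_add, map_sum, smul_eq_C_mul,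
      map_mul, eval_C, hFp _ l w hw2] at h1
    simp at h1
    linear_combination h1

/-- Tuples of forms of degrees `1, …, d` which do not cut out the expected dimension depend on at
most `(number of parameters) - (M + 1)` parameters. -/
theorem depSet_not_regular (hdM : d ≤ M) :
    DepSet {p : π ⊕ IdxE k M d → k | ¬ RegUpTo (fun j => formAt p j) d}
      (Fintype.card π + Fintype.card (IdxE k M d) - (M + 1)) := by
  classical
  have hfin : ∀ i : Fin d, ∃ T : Finset (MvPolynomial (π ⊕ IdxE k M d) k),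
      (∀ δ ∈ T, ∃ c : Chart M d k π i, c.Δ = δ) ∧
      ∀ p, RegUpTo (fun j => formAt p j) i.1 → ∃ δ ∈ T, eval p δ ≠ 0 := by
    intro i
    obtain ⟨T, hT, hspan⟩ := Submodule.fg_span_iff_fg_span_finset_subset
      (Set.range fun c : Chart M d k π i => c.Δ) |>.1 (IsNoetherian.noetherian
        (Ideal.span (Set.range fun c : Chart M d k π i => c.Δ)))
    refine ⟨T, fun δ hδ => hT hδ, fun p hp => ?_⟩
    by_contra hc
    push Not at hc
    obtain ⟨c, hcΔ⟩ := exists_chart_nhds i p hp
    have hle : Ideal.span (T : Set (MvPolynomial (π ⊕ IdxE k M d) k)) ≤ RingHom.ker (eval p) :=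
      Ideal.span_le.2 fun δ hδ => hc δ hδ
    exact hcΔ (hle (hspan.le (Submodule.subset_span ⟨c, rfl⟩)))
  choose T hTc hT using hfin
  choose ch hch using hTc
  have h : DepSet (⋃ iδ ∈ (Finset.univ : Finset (Σ i : Fin d, T i)).image ULift.up.{u},
      {p : π ⊕ IdxE k M d → k | eval p (ch iδ.down.1 _ iδ.down.2.2).Δ ≠ 0 ∧ ∀ a, ∃ w,
        (∀ j : Fin d, j.1 < iδ.down.1.1 → eval w (formAt p j).1 = 0) ∧
          (ch iδ.down.1 _ iδ.down.2.2).Y w = a ∧ eval w (formAt p iδ.down.1).1 = 0})
      (Fintype.card π + Fintype.card (IdxE k M d) - (M + 1)) :=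
    DepSet.biUnion _ _ fun iδ _ => depSet_stratum hdM iδ.down.1 _
  refine h.mono fun p hp => ?_
  have hex : ∃ i : Fin d, RegUpTo (fun j => formAt p j) i.1 ∧ ¬ RegUpTo (fun j => formAt p j) (i.1 + 1) := by
    by_contra hc
    push Not at hc
    apply hp
    have : ∀ n, n ≤ d → RegUpTo (fun j => formAt p j) n := fun n => by
      induction n with
      | zero => exact fun _ => regUpTo_zero _
      | succ n ih => exact fun hn => hc ⟨n, by omega⟩ (ih (by omega))
    exact this d le_rfl
  obtain ⟨i, hi, hn⟩ := hex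
  obtain ⟨δ, hδ, hδp⟩ := hT i p hi
  have hcδ : eval p (ch i δ hδ).Δ ≠ 0 := by rw [hch]; exact hδp
  simp only [Set.mem_iUnion]
  refine ⟨ULift.up ⟨i, ⟨δ, hδ⟩⟩, Finset.mem_image.2 ⟨_, Finset.mem_univ _, rfl⟩, hcδ,
    fun a => bad_of_not_regUpTo_succ _ i (by have := i.2; omega) _ (ch i δ hδ).hY ?_ hn a⟩
  intro w hw hYw
  funext x
  have hmem := (ch i δ hδ).spec (Finsupp.single x (ch i δ hδ).N) (Finsupp.degree_single _ _)
  have hle : Ideal.span (Set.range (Sum.elim
      (fun j : {j : Fin d // j.1 < i.1} => univF (π := π) (k := k) (M := M) j.1)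
      (fun l => ∑ x, C (C ((ch i δ hδ).Y (Pi.single x 1) l)) * X x))) ≤
      RingHom.ker (eval₂Hom (eval p) w) := Ideal.span_le.2 (by
    rintro _ ⟨j | l, rfl⟩
    · show eval₂ (eval p) w _ = 0
      rw [Sum.elim_inl, eval_univF]; exact hw j.1 j.2
    · show eval₂ (eval p) w _ = 0
      have := congrFun hYw l
      rw [← eval_linForms] at this
      simpa [linForms, eval₂_sum] using this)
  have h0 : eval₂ (eval p) w (C (ch i δ hδ).Δ * monomial (Finsupp.single x (ch i δ hδ).N) 1) = 0 :=
    hle hmem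
  rw [eval₂_mul, eval₂_C, eval₂_monomial] at h0
  simp [hcδ] at h0
  exact h0.1

end Tuples

end Groth.Agent.Gen15
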