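import Mathlib
import Groth.Prelude.Def_LefPen
import Groth.Prelude.Def_W4c2ratcurvhypCodim
import Groth.Agent.DimLib.Algebra
import Groth.Agent.Gen15.FiniteProj
import Groth.Agent.Gen15.BadForms

/-! Dimension and height consequences of finite projections and of parameter counts. -/

set_option autoImplicit false

open MvPolynomial

namespace Groth.Agent.Gen15

universe u

variable {k : Type u} [Field k]

theorem trdeg_quotient_le_of_finite_proj [IsAlgClosed k] {σ ι κ : Type} [Fintype σ] [DecidableEq σ]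
    [Fintype ι] [Fintype κ] (f : ι → MvPolynomial σ k) (df : ι → ℕ) (hf : ∀ i, (f i).IsHomogeneous (df i))
    (y : κ → MvPolynomial σ k) (hy : ∀ j, (y j).IsHomogeneous 1)
    (hz : ∀ w : σ → k, (∀ i, eval w (f i) = 0) → (∀ j, eval w (y j) = 0) → w = 0)
    (P : Ideal (MvPolynomial σ k)) [P.IsPrime] (hP : ∀ i, f i ∈ P) :
    Algebra.trdeg k (MvPolynomial σ k ⧸ P) ≤ (Fintype.card κ : Cardinal) := by
  classical
  obtain ⟨N, hN, hmem⟩ := exists_monomials_mem (Sum.elim f y) fun w hw =>
    hz w (fun i => hw (Sum.inl i)) (fun j => hw (Sum.inr j))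
  let R := MvPolynomial κ k
  have hΔ : ∀ μ : σ →₀ ℕ, μ.degree = N → C (1 : R) * monomial μ (1 : R) ∈
      Ideal.span (Set.range (Sum.elim (fun i => MvPolynomial.map (C : k →+* R) (f i))
        (fun j => MvPolynomial.map (C : k →+* R) (y j)))) := by
    intro μ hμ
    obtain ⟨c, hc⟩ := Ideal.mem_span_range_iff_exists_fun.1 (hmem μ hμ)
    refine Ideal.mem_span_range_iff_exists_fun.2 ⟨fun x => MvPolynomial.map (C : k →+* R) (c x), ?_⟩
    have h1 := congrArg (MvPolynomial.map (C : k →+* R)) hc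
    rw [map_sum, map_monomial, map_one] at h1
    rw [C_1, one_mul, ← h1]
    refine Finset.sum_congr rfl fun x _ => ?_
    rw [map_mul]
    rcases x with i | j <;> rfl
  let B := MvPolynomial σ k ⧸ P
  let K := FractionRing B
  let ψ : MvPolynomial σ k →ₐ[k] K := (IsScalarTower.toAlgHom k B K).comp (Ideal.Quotient.mkₐ k P)
  let φ : R →ₐ[k] K := aeval fun j => ψ (y j)
  have heval : ∀ g : MvPolynomial σ k,
      eval₂ φ.toRingHom (fun x => ψ (X x)) (MvPolynomial.map (C : k →+* R) g) = ψ g := fun g => by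
    rw [eval₂_map]
    induction g using MvPolynomial.induction_on with
    | C a => rw [eval₂_C]; exact (φ.commutes a).trans (ψ.commutes a).symm
    | add p q hp hq => rw [eval₂_add, hp, hq, map_add]
    | mul_X p x hp => rw [eval₂_mul, eval₂_X, hp, map_mul]
  have hint : ∀ r : MvPolynomial σ k, IsAlgebraic (Algebra.adjoin k (Set.range fun j => ψ (y j))) (ψ r) := by
    intro r
    obtain ⟨Q, D, hQ, hrel⟩ := exists_integral_relation (fun i => MvPolynomial.map (C : k →+* R) (f i)) df
      (fun i => (hf i).map _) (fun j => MvPolynomial.map (C : k →+* R) (y j)) (fun j => (hy j).map _) N hN 1 hΔ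
      (fun j => X j) (MvPolynomial.map (C : k →+* R) r)
    have h := hrel K φ.toRingHom (fun x => ψ (X x))
      (fun i => by
        rw [heval]
        show algebraMap B K (Ideal.Quotient.mk P (f i)) = 0
        rw [Ideal.Quotient.eq_zero_iff_mem.2 (hP i), map_zero])
      (fun j => by rw [heval]; exact (aeval_X (fun j => ψ (y j)) j).symm)
    rw [map_one, one_pow, one_mul, heval] at h
    let φ' : R →ₐ[k] Algebra.adjoin k (Set.range fun j => ψ (y j)) :=
      aeval fun j => ⟨ψ (y j), Algebra.subset_adjoin ⟨j, rfl⟩⟩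
    refine ⟨Q.map φ'.toRingHom, (hQ.map _).ne_zero, ?_⟩
    rw [Polynomial.aeval_def, Polynomial.eval₂_map, ← h]
    congr 1
    refine RingHom.ext fun a => ?_
    induction a using MvPolynomial.induction_on with
    | C a => exact (congrArg Subtype.val (φ'.commutes a)).trans (φ.commutes a).symm
    | add p q hp hq => rw [map_add, map_add, hp, hq]
    | mul_X p x hp => rw [map_mul, map_mul, hp]; congr 1; show ((φ' (X x)) : K) = φ (X x); rw [aeval_X, aeval_X]
  haveI : Algebra.IsAlgebraic (Algebra.adjoin k (Set.range fun j => ψ (y j))) K := ⟨fun b => by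
    let S := Subalgebra.algebraicClosure (Algebra.adjoin k (Set.range fun j => ψ (y j))) K
    have hB : ∀ c : B, algebraMap B K c ∈ S := fun c => by
      obtain ⟨r, rfl⟩ := Ideal.Quotient.mk_surjective c
      exact hint r
    obtain ⟨c, d, -, rfl⟩ := IsFractionRing.div_surjective B b
    rw [div_eq_mul_inv]
    exact IsAlgebraic.mul (hB c) (IsAlgebraic.inv (hB d))⟩
  refine (trdeg_le_of_injective (IsScalarTower.toAlgHom k B K) (IsFractionRing.injective B K)).trans ?_
  refine (Algebra.IsAlgebraic.trdeg_le_cardinalMk k (Set.range fun j => ψ (y j))).trans ?_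
  rw [Cardinal.mk_fintype, Nat.cast_le]
  exact Fintype.card_range_le _

theorem le_height_of_trdeg {σ : Type} [Fintype σ] (P : Ideal (MvPolynomial σ k)) [P.IsPrime] {m c : ℕ}
    (h : Algebra.trdeg k (MvPolynomial σ k ⧸ P) ≤ (m : Cardinal)) (hmc : c + m ≤ Fintype.card σ) :
    (c : ℕ∞) ≤ P.height := by
  obtain ⟨s, g, -, -, h1, h2⟩ := DimLib.exists_normalization (k := k) (A := MvPolynomial σ k ⧸ P)
  rw [h2, Nat.cast_le] at h
  have hdim := DimLib.height_add_ringKrullDim_quotient (k := k) P
  rw [h1, MvPolynomial.ringKrullDim_of_isNoetherianRing, ringKrullDim_eq_zero_of_field, zero_add,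
    Nat.card_eq_fintype_card] at hdim
  obtain ⟨t, ht⟩ := ENat.ne_top_iff_exists.1 (Ideal.height_ne_top_of_isPrime (I := P))
  rw [← ht] at hdim ⊢
  have h3 : ((t + s : ℕ) : WithBot ℕ∞) = ((Fintype.card σ : ℕ) : WithBot ℕ∞) := by
    push_cast; exact hdim
  have h4 : t + s = Fintype.card σ := by exact_mod_cast h3
  exact_mod_cast (show c ≤ t by omega)

theorem trdeg_quotient_le_of_dep {τ : Type} [Fintype τ] (P : Ideal (MvPolynomial τ k)) [P.IsPrime] {s : ℕ}
    (h : ∀ (κ : Type) [Fintype κ], s < Fintype.card κ → ∀ y : κ → MvPolynomial τ k,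
      ∃ Φ : MvPolynomial κ k, Φ ≠ 0 ∧ aeval y Φ ∈ P) :
    Algebra.trdeg k (MvPolynomial τ k ⧸ P) ≤ (s : Cardinal) := by
  obtain ⟨s', g, hinj, -, -, h2⟩ := DimLib.exists_normalization (k := k) (A := MvPolynomial τ k ⧸ P)
  rw [h2, Nat.cast_le]
  by_contra hc
  choose y hy using fun a : Fin s' => Ideal.Quotient.mkₐ_surjective k P (g (X a))
  obtain ⟨Φ, h0, hΦ⟩ := h (Fin s') (by simp; omega) y
  apply h0
  apply hinj
  rw [map_zero, ← Ideal.Quotient.eq_zero_iff_mem.2 hΦ]
  have : g = (Ideal.Quotient.mkₐ k P).comp (aeval y) := MvPolynomial.algHom_ext fun a => by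
    simp only [AlgHom.comp_apply, aeval_X]; exact (hy a).symm
  exact DFunLike.congr_fun this Φ

theorem ringKrullDim_quotient_le_of_trdeg {σ : Type} [Fintype σ] (I : Ideal (MvPolynomial σ k)) {m : ℕ}
    (h : ∀ P : Ideal (MvPolynomial σ k), P.IsPrime → I ≤ P →
      Algebra.trdeg k (MvPolynomial σ k ⧸ P) ≤ (m : Cardinal)) :
    ringKrullDim (MvPolynomial σ k ⧸ I) ≤ (m : WithBot ℕ∞) := by
  rw [ringKrullDim_quotient]
  refine iSup_le fun l => ?_
  let P := l.head.1
  have hIP : I ≤ P.asIdeal := l.head.2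
  have hall : ∀ i, P.asIdeal ≤ (l i).1.asIdeal := fun i => (l.head_le i : l.head ≤ l i)
  let l' : LTSeries (PrimeSpectrum.zeroLocus (R := MvPolynomial σ k) (P.asIdeal : Set (MvPolynomial σ k))) :=
    { length := l.length, toFun := fun i => ⟨(l i).1, hall i⟩, step := fun i => l.step i }
  have h1 : (l.length : WithBot ℕ∞) ≤ ringKrullDim (MvPolynomial σ k ⧸ P.asIdeal) := by
    rw [ringKrullDim_quotient]; exact Order.LTSeries.length_le_krullDim l'
  refine h1.trans ?_
  obtain ⟨s, g, -, -, hs1, hs2⟩ := DimLib.exists_normalization (k := k) (A := MvPolynomial σ k ⧸ P.asIdeal)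
  have := h P.asIdeal P.isPrime hIP
  rw [hs2, Nat.cast_le] at this
  rw [hs1]
  exact_mod_cast this

variable {V : Type u} [AddCommGroup V] [Module k V] {τ : Type} [Fintype τ]

/-- Coordinate identification of the polynomial functions. -/
noncomputable def polyFunOf (b : Module.Basis τ k V) :
    MvPolynomial τ k →ₐ[k] ↥(LefPen.polyFunAlg k V) :=
  aeval fun a => ⟨(b.coord a : V → k), Algebra.subset_adjoin ⟨b.coord a, rfl⟩⟩

theorem polyFunOf_apply (b : Module.Basis τ k V) (Φ : MvPolynomial τ k) (v : V) :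
    (polyFunOf b Φ).1 v = eval (fun a => b.repr v a) Φ := by
  induction Φ using MvPolynomial.induction_on with
  | C c => simp [polyFunOf]
  | add p q hp hq => simp only [map_add, Subalgebra.coe_add, Pi.add_apply, hp, hq]
  | mul_X p a hp =>
      simp only [map_mul, Subalgebra.coe_mul, Pi.mul_apply, hp, eval_X]
      simp [polyFunOf]

theorem polyFunOf_bijective [Infinite k] (b : Module.Basis τ k V) : Function.Bijective (polyFunOf b) := by
  classical
  refine ⟨fun Φ Ψ h => MvPolynomial.funext fun x => ?_, ?_⟩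
  · have := congrArg (fun f : ↥(LefPen.polyFunAlg k V) => f.1 (b.equivFun.symm x)) h
    simp only [polyFunOf_apply] at this
    have hx : (fun a => b.repr (b.equivFun.symm x) a) = x := b.equivFun.apply_symm_apply x
    rwa [hx] at this
  · rintro ⟨f, hf⟩
    suffices h : LefPen.polyFunAlg k V ≤ (polyFunOf b).range.map (LefPen.polyFunAlg k V).val by
      obtain ⟨g, ⟨Φ, rfl⟩, hg⟩ := Subalgebra.mem_map.1 (h hf)
      exact ⟨Φ, Subtype.ext hg⟩
    refine Algebra.adjoin_le ?_
    rintro _ ⟨l, rfl⟩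
    refine Subalgebra.mem_map.2 ⟨polyFunOf b (∑ a, C (l (b a)) * X a), ⟨_, rfl⟩, funext fun v => ?_⟩
    show (polyFunOf b _).1 v = l v
    rw [polyFunOf_apply]
    have h1 := congrArg l (b.sum_repr v)
    simp only [map_sum, map_smul, smul_eq_mul] at h1
    simpa [map_sum, mul_comm] using h1

theorem codimGE_of_forall_prime [Infinite k] (b : Module.Basis τ k V) (D : Set V) (c : ℕ)
    (h : ∀ P : Ideal (MvPolynomial τ k), P.IsPrime →
      (∀ Φ, (∀ v ∈ D, eval (fun a => b.repr v a) Φ = 0) → Φ ∈ P) → (c : ℕ∞) ≤ P.height) :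
    LefPen.CodimGE k D c := by
  let e := RingEquiv.ofBijective (polyFunOf b) (polyFunOf_bijective b)
  unfold LefPen.CodimGE
  rw [Ideal.height_eq_inf_minimalPrimes]
  refine le_iInf₂ fun Q hQ => ?_
  haveI := hQ.1.1
  let P : Ideal (MvPolynomial τ k) := Q.comap e
  haveI : P.IsPrime := Ideal.IsPrime.comap e
  have hPQ : P.map e = Q := Ideal.map_comap_of_surjective e e.surjective Q
  have h1 := h P inferInstance fun Φ hΦ => hQ.1.2 (fun v hv => by
    show (polyFunOf b Φ).1 v = 0
    rw [polyFunOf_apply]; exact hΦ v hv)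
  rw [← hPQ, e.height_map]
  exact h1

end Groth.Agent.Gen15
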