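import Mathlib
import Groth.Prelude.Def_LefPen
import Groth.Prelude.Def_W4c2ratcurvhypCodim
import Groth.Agent.Gen15.Engine
import Groth.Agent.Gen15.Forms
import Groth.Agent.Gen15.BadForms
import Groth.Agent.Gen15.BadDim

/-! Lines through a point of a general hypersurface. -/

set_option autoImplicit false

open MvPolynomial

namespace Groth.Agent.Gen15

universe u

variable {k : Type u} [Field k] {n d : ℕ}

theorem expansion (c : Fin (n + 1)) {e : ℕ} (P : MvPolynomial (Fin (n + 1)) k) (hP : P.IsHomogeneous e) :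
    ∃ H : ℕ → MvPolynomial (Fin n) k, (∀ i, (H i).IsHomogeneous i) ∧
      P = ∑ i ∈ Finset.range (e + 1), X c ^ (e - i) * rename c.succAbove (H i) := by
  classical
  let μ' : (Fin (n + 1) →₀ ℕ) → (Fin n →₀ ℕ) :=
    fun μ => Finsupp.equivFunOnFinite.symm fun x => μ (c.succAbove x)
  have hdeg : ∀ μ ∈ P.support, μ c + (μ' μ).degree = e := fun μ hμ => by
    have h := hP (mem_support_iff.1 hμ)
    have h' : μ.degree = e := by simpa [Finsupp.degree_eq_weight_one, Pi.one_def] using h
    rw [← h', Finsupp.degree_eq_sum, Finsupp.degree_eq_sum, Fin.sum_univ_succAbove _ c]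
    rfl
  refine ⟨fun i => ∑ μ ∈ P.support.filter (fun μ => (μ' μ).degree = i), monomial (μ' μ) (coeff μ P),
    fun i => IsHomogeneous.sum _ _ _ fun μ hμ => isHomogeneous_monomial _ (Finset.mem_filter.1 hμ).2, ?_⟩
  conv_lhs => rw [P.as_sum]
  rw [← Finset.sum_fiberwise_of_maps_to (g := fun μ => (μ' μ).degree) (t := Finset.range (e + 1))
    (fun μ hμ => Finset.mem_range.2 (by have := hdeg μ hμ; omega))]
  refine Finset.sum_congr rfl fun i _ => ?_
  rw [map_sum, Finset.mul_sum]
  refine Finset.sum_congr rfl fun μ hμ => ?_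
  obtain ⟨hμs, hμi⟩ := Finset.mem_filter.1 hμ
  rw [rename_monomial, X_pow_eq_monomial, monomial_mul, one_mul]
  refine congrArg (fun ν => monomial ν (coeff μ P)) (Finsupp.ext fun z => ?_)
  rcases Fin.eq_self_or_eq_succAbove c z with rfl | ⟨z', rfl⟩
  · rw [Finsupp.add_apply, Finsupp.single_eq_same, Finsupp.mapDomain_notin_range]
    · have := hdeg μ hμs; omega
    · rintro ⟨x, hx⟩; exact Fin.succAbove_ne z x hx
  · rw [Finsupp.add_apply, Finsupp.single_eq_of_ne (Fin.succAbove_ne c z'), zero_add,
      Finsupp.mapDomain_apply (Fin.succAbove_right_injective)]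
    rfl

theorem eq_zero_of_slices [Infinite k] (d : ℕ) (a : Fin d → k)
    (h : ∀ t : k, ∑ j : Fin d, t ^ (d - (j.1 + 1)) * a j = 0) (j : Fin d) : a j = 0 := by
  classical
  let q : Polynomial k := ∑ j : Fin d, Polynomial.C (a j) * Polynomial.X ^ (d - (j.1 + 1))
  have hq : q = 0 := Polynomial.funext fun t => by
    rw [Polynomial.eval_zero, ← h t, Polynomial.eval_finsetSum]
    refine Finset.sum_congr rfl fun i _ => ?_
    simp only [Polynomial.eval_mul, Polynomial.eval_C, Polynomial.eval_pow, Polynomial.eval_X]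
    ring
  have := congrArg (fun p => Polynomial.coeff p (d - (j.1 + 1))) hq
  simp only [q, Polynomial.finset_sum_coeff, Polynomial.coeff_C_mul_X_pow, Polynomial.coeff_zero] at this
  rw [Finset.sum_eq_single j] at this
  · simpa using this
  · intro i _ hi
    rw [if_neg]
    intro he
    exact hi (Fin.ext (by have := i.2; have := j.2; omega))
  · simp

/-- Forms through a point, in the chart `x_c = 1`: the universal form. -/
noncomputable def univPhi (c : Fin (n + 1)) (M : ℕ) (hn : M + 1 = n) :
    MvPolynomial (Fin (n + 1)) (MvPolynomial (Fin n ⊕ IdxE k M d) k) :=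
  ∑ j : Fin d, X c ^ (d - (j.1 + 1)) *
    aeval (fun y : Fin (M + 1) => X (c.succAbove (Fin.cast hn y)) - C (X (Sum.inl (Fin.cast hn y))) * X c)
      (univF (π := Fin n) (k := k) (M := M) j)

theorem univPhi_hom (c : Fin (n + 1)) (M : ℕ) (hn : M + 1 = n) :
    (univPhi (k := k) (d := d) c M hn).IsHomogeneous d := by
  refine IsHomogeneous.sum _ _ _ fun j _ => ?_
  have h1 := (univF_hom (π := Fin n) (k := k) (M := M) j).aeval
    (fun y : Fin (M + 1) => X (c.succAbove (Fin.cast hn y)) - C (X (Sum.inl (Fin.cast hn y))) * X c)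
    (n := 1) (fun y => (isHomogeneous_X (R := MvPolynomial (Fin n ⊕ IdxE k M d) k) (c.succAbove (Fin.cast hn y))).sub
      ((isHomogeneous_X _ c).C_mul _))
  have h2 := ((isHomogeneous_X (MvPolynomial (Fin n ⊕ IdxE k M d) k) c).pow (d - (j.1 + 1))).mul h1
  have := j.2
  rwa [show 1 * (d - (j.1 + 1)) + 1 * (j.1 + 1) = d by omega] at h2

theorem eval_univPhi (c : Fin (n + 1)) (M : ℕ) (hn : M + 1 = n) (p : Fin n ⊕ IdxE k M d → k)
    (x : Fin (n + 1) → k) : eval x (MvPolynomial.map (eval p) (univPhi c M hn)) =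
      ∑ j : Fin d, x c ^ (d - (j.1 + 1)) *
        eval (fun y => x (c.succAbove (Fin.cast hn y)) - p (Sum.inl (Fin.cast hn y)) * x c) (formAt p j).1 := by
  simp only [univPhi, map_sum, map_mul, map_pow, map_X, eval_X]
  refine Finset.sum_congr rfl fun j _ => ?_
  congr 1
  rw [← map_univF, eval_map, eval_map, aeval_def]
  generalize univF (π := Fin n) (k := k) (M := M) j = F
  induction F using MvPolynomial.induction_on with
  | C a => simp
  | add p q hp hq => simp only [eval₂_add, hp, hq]
  | mul_X q y hq => simp only [eval₂_mul, eval₂_X, eval₂_sub, eval₂_C, hq, eval_X]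

theorem exists_coords [Infinite k] (c : Fin (n + 1)) (M : ℕ) (hn : M + 1 = n) (Φ : LefPen.Form n k d)
    (v : Fin (n + 1) → k) (hvc : v c = 1) (hv : eval v Φ.1 = 0) :
    ∃ p : Fin n ⊕ IdxE k M d → k, (∀ x, p (Sum.inl x) = v (c.succAbove x)) ∧
      MvPolynomial.map (eval p) (univPhi c M hn) = Φ.1 := by
  classical
  let T : Fin (n + 1) → MvPolynomial (Fin (n + 1)) k := fun i =>
    if i = c then X c else X i + C (v i) * X c
  have hT : ∀ i, (T i).IsHomogeneous 1 := fun i => by
    simp only [T]; split_ifs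
    · exact isHomogeneous_X _ _
    · exact (isHomogeneous_X k i).add ((isHomogeneous_X k c).C_mul _)
  have hP : (aeval T Φ.1).IsHomogeneous d := by simpa using Φ.2.aeval T hT
  obtain ⟨H, hH, hPH⟩ := expansion c _ hP
  have hH0 : H 0 = 0 := by
    obtain ⟨a, ha⟩ : ∃ a, H 0 = C a := ⟨coeff 0 (H 0), totalDegree_eq_zero_iff_eq_C.1 (Nat.le_zero.1 (hH 0).totalDegree_le)⟩
    have h1 := congrArg (eval (Pi.single c 1 : Fin (n + 1) → k)) hPH
    rw [eval_aeval_pt, map_sum, Finset.sum_eq_single 0] at h1
    · have h2 : (fun i => eval (Pi.single c 1 : Fin (n + 1) → k) (T i)) = v := funext fun i => by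
        by_cases h : i = c
        · subst h; simp [T, hvc]
        · simp [T, h, Pi.single_apply]
      rw [h2, hv, ha] at h1
      simp at h1
      rw [ha, ← h1, C_0]
    · intro i _ hi
      rw [map_mul, eval_rename, show (Pi.single c 1 : Fin (n + 1) → k) ∘ c.succAbove = 0 from
        funext fun x => by simp [Pi.single_apply, Fin.succAbove_ne]]
      have h0 : eval (0 : Fin n → k) (H i) = 0 := by
        rw [eval_zero, constantCoeff_eq]
        exact (hH i).coeff_eq_zero (by simpa using Ne.symm hi)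
      rw [h0, mul_zero]
    · simp
  let G : (j : Fin d) → LefPen.Form M k (j.1 + 1) := fun j =>
    ⟨rename (Fin.cast hn.symm) (H (j.1 + 1)), (hH _).rename_isHomogeneous⟩
  let p : Fin n ⊕ IdxE k M d → k :=
    Sum.elim (fun x => v (c.succAbove x)) fun x => (bB k M (x.1.1 + 1)).repr (G x.1) x.2
  have hform : ∀ j, formAt p j = G j := fun j => by
    conv_rhs => rw [← (bB k M (j.1 + 1)).sum_repr (G j)]
    exact Finset.sum_congr rfl fun a _ => rfl
  refine ⟨p, fun x => rfl, MvPolynomial.funext fun x => ?_⟩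
  let y : Fin (n + 1) → k := fun i => if i = c then x c else x i - v i * x c
  have hx : (fun i => eval y (T i)) = x := funext fun i => by
    by_cases h : i = c
    · subst h; simp [T, y]
    · simp [T, y, h]
  have h1 := congrArg (eval y) hPH
  rw [eval_aeval_pt, hx, map_sum] at h1
  rw [eval_univPhi, h1, Finset.sum_range_succ', hH0]
  simp only [map_zero, mul_zero, add_zero]
  rw [← Fin.sum_univ_eq_sum_range (fun i => eval y (X c ^ (d - (i + 1)) * rename c.succAbove (H (i + 1))))]
  refine Finset.sum_congr rfl fun j _ => ?_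
  rw [map_mul, map_pow, eval_X, eval_rename, hform]
  congr 1
  · simp [y]
  · rw [eval_rename]
    congr 2
    funext z
    simp [p, y, Fin.succAbove_ne]

theorem card_idxE_lt [Infinite k] (c : Fin (n + 1)) (M : ℕ) (hn : M + 1 = n) :
    Fintype.card (IdxE k M d) < Module.finrank k (LefPen.Form n k d) := by
  classical
  let E := ((j : Fin d) → LefPen.Form M k (j.1 + 1))
  let bE : Module.Basis (IdxE k M d) k E := Pi.basis fun j : Fin d => bB k M (j.1 + 1)
  let σ : Fin (M + 1) → Fin (n + 1) := fun y => c.succAbove (Fin.cast hn y)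
  let Ψ : E →ₗ[k] MvPolynomial (Fin (n + 1)) k :=
    ∑ j : Fin d, (LinearMap.mulLeft k (X c ^ (d - (j.1 + 1)))) ∘ₗ (rename σ).toLinearMap ∘ₗ
      (Submodule.subtype _) ∘ₗ LinearMap.proj j
  have hΨmem : ∀ G, (Ψ G).IsHomogeneous d := fun G => by
    simp only [Ψ, LinearMap.sum_apply]
    refine IsHomogeneous.sum _ _ _ fun j _ => ?_
    have h2 := ((isHomogeneous_X k c).pow (d - (j.1 + 1))).mul ((G j).2.rename_isHomogeneous (f := σ))
    have := j.2
    rwa [show 1 * (d - (j.1 + 1)) + (j.1 + 1) = d by omega] at h2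
  let top : LefPen.Form n k d := ⟨X c ^ d, by simpa using (isHomogeneous_X k c).pow d⟩
  let L : (E × k) →ₗ[k] LefPen.Form n k d :=
    (Ψ.codRestrict _ hΨmem).coprod (LinearMap.toSpanSingleton k _ top)
  have hL : Function.Injective L := by
    rw [← LinearMap.ker_eq_bot, LinearMap.ker_eq_bot']
    rintro ⟨G, a⟩ h
    have h' : ∀ x : Fin (n + 1) → k,
        (∑ j : Fin d, x c ^ (d - (j.1 + 1)) * eval (fun y => x (σ y)) (G j).1) + a * x c ^ d = 0 := fun x => by
      have h0 : Ψ G + a • (X c : MvPolynomial (Fin (n + 1)) k) ^ d = 0 := congrArg Subtype.val h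
      have h1 := congrArg (eval x) h0
      simp [Ψ, LinearMap.sum_apply, map_sum, eval_rename, Function.comp_def,
        MvPolynomial.smul_eval] at h1
      exact h1
    have ha : a = 0 := by
      have h1 := h' (Pi.single c 1)
      rw [Finset.sum_eq_zero] at h1
      · simpa using h1
      · intro j _
        rw [show (fun y => (Pi.single c 1 : Fin (n + 1) → k) (σ y)) = (0 : k) • (0 : Fin (M + 1) → k) from
          funext fun y => by simp [σ, Pi.single_apply, Fin.succAbove_ne], eval_smul_form (G j).2]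
        simp
    subst ha
    refine Prod.ext (funext fun j => Subtype.ext (MvPolynomial.funext fun w => ?_)) rfl
    have hs := eq_zero_of_slices d (fun j => eval w (G j).1) (fun t => by
      have h1 := h' (c.insertNth t fun z => w (Fin.cast hn.symm z))
      simpa [σ] using h1) j
    rw [hs]
    show (0 : k) = eval w (0 : LefPen.Form M k (j.1 + 1)).1
    rw [Submodule.coe_zero, map_zero]
  haveI : Module.Free k E := Module.Free.of_basis bE
  haveI : Module.Finite k E := Module.Finite.of_basis bE
  have h1 := LinearMap.finrank_le_finrank_of_injective hL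
  rw [Module.finrank_prod, Module.finrank_eq_card_basis bE, Module.finrank_self] at h1
  omega

theorem codim_cone [IsAlgClosed k] (c : Fin (n + 1)) (M : ℕ) (hn : M + 1 = n) (hdM : d ≤ M)
    (p : Fin n ⊕ IdxE k M d → k) (hreg : RegUpTo (fun j => formAt p j) d) (Φ : LefPen.Form n k d)
    (hΦ : MvPolynomial.map (eval p) (univPhi c M hn) = Φ.1) (v : Fin (n + 1) → k) (hvc : v c = 1)
    (hpv : ∀ x, p (Sum.inl x) = v (c.succAbove x)) :
    LefPen.CodimGE k {w : Fin (n + 1) → k | ∀ s t : k, eval (s • v + t • w) Φ.1 = 0} d := by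
  classical
  obtain ⟨Y, -, hY⟩ := hreg
  let u : Fin (M + 1) → MvPolynomial (Fin (n + 1)) k := fun y =>
    X (c.succAbove (Fin.cast hn y)) - C (v (c.succAbove (Fin.cast hn y))) * X c
  have hu : ∀ y, (u y).IsHomogeneous 1 := fun y =>
    (isHomogeneous_X k _).sub ((isHomogeneous_X k c).C_mul _)
  let f : Fin d → MvPolynomial (Fin (n + 1)) k := fun j => aeval u (formAt p j).1
  let yy : Option (Fin (M + 1 - d)) → MvPolynomial (Fin (n + 1)) k :=
    fun o => o.elim (X c) fun l => aeval u (linForms Y l)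
  refine codimGE_of_forall_prime (Pi.basisFun k (Fin (n + 1))) _ _ fun P hP hPD => ?_
  have hfP : ∀ j, f j ∈ P := fun j => hPD _ fun w hw => by
    simp only [Pi.basisFun_repr]
    have key : ∀ r : k, ∑ i : Fin d, r ^ (d - (i.1 + 1)) * eval w (f i) = 0 := fun r => by
      have h1 := hw (r - w c) 1
      rw [← hΦ, eval_univPhi] at h1
      rw [← h1]
      refine Finset.sum_congr rfl fun i _ => ?_
      simp only [f, eval_aeval_pt, Pi.add_apply, Pi.smul_apply, smul_eq_mul, hvc, one_mul, mul_one,
        sub_add_cancel]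
      congr 2
      refine congrArg eval (funext fun y => ?_)
      simp only [u, map_sub, map_mul, eval_X, eval_C, hpv]
      ring
    exact eq_zero_of_slices d (fun i => eval w (f i)) key j
  refine le_height_of_trdeg P (trdeg_quotient_le_of_finite_proj f (fun j => 1 * (j.1 + 1))
    (fun j => (formAt p j).2.aeval u hu) yy ?_ ?_ P hfP) (by simp; omega)
  · rintro (_ | l)
    · exact isHomogeneous_X k c
    · have h := (show (linForms Y l).IsHomogeneous 1 from IsHomogeneous.sum _ _ _ fun x _ =>
        (isHomogeneous_X k x).C_mul _).aeval u hu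
      rw [one_mul] at h
      exact h
  · intro w hw1 hw2
    have hwc : w c = 0 := by simpa [yy] using hw2 none
    have h0 : (fun y => eval w (u y)) = 0 := hY _
      (fun j _ => (eval_aeval_pt u w (formAt p j).1).symm.trans (hw1 j)) (funext fun l => by
        rw [← eval_linForms]; exact (eval_aeval_pt u w (linForms Y l)).symm.trans (hw2 (some l)))
    funext i
    rcases Fin.eq_self_or_eq_succAbove c i with rfl | ⟨z, rfl⟩
    · exact hwc
    · have := congrFun h0 (Fin.cast hn.symm z)
      simpa [u, hwc] using this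

theorem isGeneric_lines_through [IsAlgClosed k] (n d : ℕ) (hd : 1 ≤ d) (hdn : d + 3 ≤ n) :
    LefPen.IsGeneric k {Φ : LefPen.Form n k d |
      ∀ v : Fin (n + 1) → k, v ≠ 0 → MvPolynomial.eval v Φ.1 = 0 →
        LefPen.CodimGE k {w : Fin (n + 1) → k | ∀ s t : k, MvPolynomial.eval (s • v + t • w) Φ.1 = 0} d} := by
  classical
  obtain ⟨M, hn⟩ : ∃ M, M + 1 = n := ⟨n - 1, by omega⟩
  have hdM : d ≤ M := by omega
  let b := Module.finBasis k (LefPen.Form n k d)
  choose Λ hΛ using fun a => LinearMap.exists_extend (b.coord a)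
  let g : Fin (n + 1) → Fin (Module.finrank k (LefPen.Form n k d)) →
      MvPolynomial (Fin n ⊕ IdxE k M d) k := fun c a =>
    ∑ μ ∈ (univPhi (k := k) (d := d) c M hn).support,
      coeff μ (univPhi c M hn) * C (Λ a (monomial μ 1))
  have hg : ∀ c p (Φ : LefPen.Form n k d), MvPolynomial.map (eval p) (univPhi c M hn) = Φ.1 →
      ∀ a, eval p (g c a) = b.repr Φ a := fun c p Φ hΦ a => by
    have h1 : b.repr Φ a = Λ a Φ.1 := (LinearMap.congr_fun (hΛ a) Φ).symm
    rw [h1, ← hΦ]
    conv_rhs => rw [(univPhi (k := k) (d := d) c M hn).as_sum]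
    simp only [g, map_sum, map_mul, eval_C, map_monomial]
    refine Finset.sum_congr rfl fun μ _ => ?_
    conv_rhs => rw [← mul_one (eval p _), ← smul_eq_mul, ← smul_monomial, map_smul, smul_eq_mul]
  have h : ∀ c, ∃ F : MvPolynomial (Fin (Module.finrank k (LefPen.Form n k d))) k, F ≠ 0 ∧
      ∀ p, ¬ RegUpTo (fun j => formAt (π := Fin n) (k := k) (M := M) (d := d) p j) d →
        eval (fun a => eval p (g c a)) F = 0 := fun c =>
    (depSet_not_regular (π := Fin n) hdM) _ (by
      have := card_idxE_lt (k := k) (d := d) c M hn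
      simp only [Fintype.card_fin]
      omega) (g c)
  choose F hF0 hF using h
  refine isGeneric_of_basis b (∏ c, F c) (Finset.prod_ne_zero_iff.2 fun c _ => hF0 c) fun Φ hΦ v hv hv0 => ?_
  rw [map_prod, Finset.prod_ne_zero_iff] at hΦ
  obtain ⟨c, hc⟩ : ∃ c, v c ≠ 0 := Function.ne_iff.1 hv
  let v1 := (v c)⁻¹ • v
  have hv1c : v1 c = 1 := inv_mul_cancel₀ hc
  have hv10 : eval v1 Φ.1 = 0 := by rw [eval_smul_form Φ.2, hv0, mul_zero]
  obtain ⟨p, hpv, hp⟩ := exists_coords c M hn Φ v1 hv1c hv10
  have hset : {w : Fin (n + 1) → k | ∀ s t : k, eval (s • v + t • w) Φ.1 = 0} =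
      {w : Fin (n + 1) → k | ∀ s t : k, eval (s • v1 + t • w) Φ.1 = 0} := by
    ext w
    constructor <;> intro hw s t
    · simpa [v1, smul_smul] using hw (s * (v c)⁻¹) t
    · simpa [v1, smul_smul, hc] using hw (s * v c) t
  rw [hset]
  refine codim_cone c M hn hdM p ?_ Φ hp v1 hv1c hpv
  by_contra hreg
  refine hΦ c (Finset.mem_univ c) ?_
  rw [← hF c p hreg]
  exact congrArg (fun f => eval f (F c)) (funext fun a => (hg c p Φ hp a).symm)

end Groth.Agent.Gen15
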